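import Mathlib.AlgebraicGeometry.Morphisms.Flat
import Mathlib.AlgebraicGeometry.Morphisms.ClosedImmersion
import Mathlib.AlgebraicGeometry.Morphisms.Separated
import Mathlib.AlgebraicGeometry.Pullbacks
import Mathlib.RingTheory.Localization.FractionRing

/-!
Maps from a flat scheme over a domain to a separated scheme are determined by the generic fibre.
-/

set_option autoImplicit false
set_option linter.style.haveILetI false

universe u

open CategoryTheory CategoryTheory.Limits AlgebraicGeometry TensorProduct

noncomputable section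

namespace Groth.Sga3.Solvable

variable {A : Type u} [CommRing A] (K : Type u) [Field K] [Algebra A K] [IsFractionRing A K]

theorem eq_of_agree_generic_fibre {Z G : Scheme.{u}} (f : Z ⟶ Spec (CommRingCat.of A)) [Flat f]
    (g : G ⟶ Spec (CommRingCat.of A)) [IsSeparated g] (a b : Z ⟶ G) (ha : a ≫ g = f) (hb : b ≫ g = f)
    (h : pullback.fst f (Spec.map (CommRingCat.ofHom (algebraMap A K))) ≫ a =
      pullback.fst f (Spec.map (CommRingCat.ofHom (algebraMap A K))) ≫ b) : a = b := by
  refine Z.affineCover.hom_ext _ _ fun i => ?_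
  suffices key : ∀ (R : CommRingCat.{u}) (j : Spec R ⟶ Z) [IsOpenImmersion j], j ≫ a = j ≫ b by
    let e := (Z.affineCover.X i).isoSpec
    have := key _ (e.inv ≫ Z.affineCover.f i)
    rwa [Category.assoc, Category.assoc, cancel_epi] at this
  intro R j _
  let φ : CommRingCat.of A ⟶ R := Spec.preimage (j ≫ f)
  have hφ : Spec.map φ = j ≫ f := Spec.map_preimage _
  letI := φ.hom.toAlgebra
  have hφflat : Module.Flat A R := by
    have h1 : Flat (Spec.map φ) := hφ ▸ inferInstance
    exact (HasRingHomProperty.Spec_iff (P := @Flat)).1 h1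
  let iL : R ⟶ CommRingCat.of ((R : Type u) ⊗[A] K) := CommRingCat.ofHom Algebra.TensorProduct.includeLeftRingHom
  let iR : CommRingCat.of K ⟶ CommRingCat.of ((R : Type u) ⊗[A] K) :=
    CommRingCat.ofHom (Algebra.TensorProduct.includeRight (R := A) (A := (R : Type u)) (B := K)).toRingHom
  have hcomm : φ ≫ iL = CommRingCat.ofHom (algebraMap A K) ≫ iR := by
    ext x
    exact (Algebra.TensorProduct.includeRight.commutes x).symm
  have hinj : Function.Injective iL.hom :=
    Algebra.TensorProduct.includeLeft_injective (S := A) (IsFractionRing.injective A K)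
  have hagree : Spec.map iL ≫ j ≫ a = Spec.map iL ≫ j ≫ b := by
    let l : Spec (CommRingCat.of ((R : Type u) ⊗[A] K)) ⟶ pullback f (Spec.map (CommRingCat.ofHom (algebraMap A K))) :=
      pullback.lift (Spec.map iL ≫ j) (Spec.map iR) (by
        rw [Category.assoc, ← hφ, ← Spec.map_comp, ← Spec.map_comp, hcomm])
    have hl : l ≫ pullback.fst f _ = Spec.map iL ≫ j := pullback.lift_fst _ _ _
    rw [← Category.assoc, ← Category.assoc, ← hl, Category.assoc, Category.assoc, h]
  let L := pullback.lift (f := g) (g := g) (j ≫ a) (j ≫ b) (by simp [ha, hb])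
  let c := pullback.fst L (pullback.diagonal g)
  obtain ⟨I, e, he⟩ := (IsClosedImmersion.Spec_iff (f := c)).1 inferInstance
  let m : Spec (CommRingCat.of ((R : Type u) ⊗[A] K)) ⟶ pullback L (pullback.diagonal g) :=
    pullback.lift (Spec.map iL) (Spec.map iL ≫ j ≫ a) (pullback.hom_ext
      (by rw [Category.assoc, pullback.lift_fst, Category.assoc, pullback.diagonal_fst, Category.comp_id]) (by rw [Category.assoc, pullback.lift_snd, Category.assoc, pullback.diagonal_snd, Category.comp_id, hagree]))
  have hm : m ≫ c = Spec.map iL := pullback.lift_fst _ _ _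
  let ψ := Spec.preimage (m ≫ e.hom)
  have hψ : CommRingCat.ofHom (Ideal.Quotient.mk I) ≫ ψ = iL := by
    apply Spec.map_injective
    rw [Spec.map_comp, Spec.map_preimage, Category.assoc, ← he, hm]
  have hI : I = ⊥ := le_bot_iff.1 fun x hx => hinj (by
    rw [map_zero, ← hψ]
    show ψ.hom (Ideal.Quotient.mk I x) = 0
    rw [Ideal.Quotient.eq_zero_iff_mem.2 hx, map_zero])
  haveI : IsIso c := by
    rw [he]
    have : IsIso (CommRingCat.ofHom (Ideal.Quotient.mk I)) :=
      (ConcreteCategory.isIso_iff_bijective _).2 ⟨(injective_iff_map_eq_zero _).2 fun x hx => by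
        simpa [hI] using Ideal.Quotient.eq_zero_iff_mem.1 hx, Ideal.Quotient.mk_surjective⟩
    infer_instance
  have hc := pullback.condition (f := L) (g := pullback.diagonal g)
  have e1 := congrArg (· ≫ pullback.fst g g) hc
  have e2 := congrArg (· ≫ pullback.snd g g) hc
  simp only [Category.assoc, L, pullback.lift_fst, pullback.lift_snd, pullback.diagonal_fst, pullback.diagonal_snd,
    Category.comp_id] at e1 e2
  rw [← cancel_epi c]
  exact e1.trans e2.symm

end Groth.Sga3.Solvable
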