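import Groth.Agent.Sga3.Solvable.Locus
import Groth.Agent.Sga3.Solvable.FlatExt

/-!
The loci of solvable and of nilpotent geometric fibres, and specialisation over a domain.
-/

set_option autoImplicit false
set_option linter.style.haveILetI false

universe u

open CategoryTheory CategoryTheory.Limits MonoidalCategory CartesianMonoidalCategory MonObj GrpObj
  AlgebraicGeometry TopologicalSpace Topology

noncomputable section

namespace Groth.Sga3.Solvable

variable {S : Scheme.{u}} (G : Over S) [GrpObj G]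

theorem isClosed_iUnion_of_bound {X : Type u} [TopologicalSpace X] {Z : ℕ → Set X}
    (hZ : ∀ n, IsClosed (Z n)) (h : ∀ x, ∃ V : Set X, IsOpen V ∧ x ∈ V ∧ ∃ N, ∀ y ∈ V, (∃ n, y ∈ Z n) → y ∈ Z N) :
    IsClosed (⋃ n, Z n) := by
  refine isClosed_iff_clusterPt.2 fun x hx => ?_
  obtain ⟨V, hV, hxV, N, hN⟩ := h x
  have hmem : x ∈ closure (Z N) := by
    refine mem_closure_iff.2 fun U hU hxU => ?_
    obtain ⟨y, hy, hyZ⟩ := mem_closure_iff.1 (mem_closure_iff_clusterPt.2 hx) (U ∩ V) (hU.inter hV) ⟨hxU, hxV⟩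
    exact ⟨y, hy.1, hN y hy.2 (Set.mem_iUnion.1 hyZ)⟩
  exact Set.mem_iUnion.2 ⟨N, (hZ N).closure_eq.le hmem⟩

theorem isClosed_iUnion_solvLE [Smooth G.hom] [QuasiCompact G.hom] [IsSeparated G.hom] :
    IsClosed (⋃ n, solvLE G n) :=
  isClosed_iUnion_of_bound (fun n => (isClosed_LE G n).1) fun s => by
    obtain ⟨V, hV, hsV, -⟩ := exists_isAffineOpen_mem_and_subset (U := ⊤) (Set.mem_univ s)
    obtain ⟨N, hN⟩ := exists_bound G hV
    exact ⟨V, V.2, hsV, N, fun y hy h => (hN y hy).1 h⟩

theorem isClosed_iUnion_nilLE [Smooth G.hom] [QuasiCompact G.hom] [IsSeparated G.hom] :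
    IsClosed (⋃ n, nilLE G n) :=
  isClosed_iUnion_of_bound (fun n => (isClosed_LE G n).2) fun s => by
    obtain ⟨V, hV, hsV, -⟩ := exists_isAffineOpen_mem_and_subset (U := ⊤) (Set.mem_univ s)
    obtain ⟨N, hN⟩ := exists_bound G hV
    exact ⟨V, V.2, hsV, N, fun y hy h => (hN y hy).2 h⟩

omit [GrpObj G] in
theorem isLocallyConstructible_of_bound {Z : ℕ → Set S} (hZ : ∀ n, IsLocallyConstructible (Z n))
    (h : ∀ V : S.Opens, IsAffineOpen V → ∃ N, ∀ y ∈ V, (∃ n, y ∈ Z n) → y ∈ Z N) :
    IsLocallyConstructible (⋃ n, Z n) := by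
  choose N hN using h
  refine IsLocallyConstructible.of_isOpenCover (U := fun V : S.affineOpens => (V : S.Opens))
    (IsOpenCover.mk (iSup_affineOpens_eq_top S)) fun V => ?_
  have e : (Subtype.val ⁻¹' (⋃ n, Z n) : Set ((V : S.Opens) : Set S)) = Subtype.val ⁻¹' Z (N V V.2) := by
    ext ⟨y, hy⟩
    simp only [Set.mem_preimage, Set.mem_iUnion]
    exact ⟨fun h => hN V V.2 y hy h, fun h => ⟨_, h⟩⟩
  rw [e]
  exact (hZ (N V V.2)).preimage_of_isOpenEmbedding (V : S.Opens).2.isOpenEmbedding_subtypeVal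

theorem isLocallyConstructible_iUnion [LocallyOfFinitePresentation G.hom] [QuasiCompact G.hom]
    [QuasiSeparated G.hom] :
    IsLocallyConstructible (⋃ n, solvLE G n) ∧ IsLocallyConstructible (⋃ n, nilLE G n) :=
  ⟨isLocallyConstructible_of_bound (fun n => (isLocallyConstructible_LE G n).1) fun V hV =>
      (exists_bound G hV).imp fun N hN y hy => (hN y hy).1,
    isLocallyConstructible_of_bound (fun n => (isLocallyConstructible_LE G n).2) fun V hV =>
      (exists_bound G hV).imp fun N hN y hy => (hN y hy).2⟩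

variable {S' : Scheme.{u}} (g : S' ⟶ S)

/-- Points of a base change as points over the base. -/
def bcEquiv (T : Over S') : ((Over.map g).obj T ⟶ G) ≃* (T ⟶ Red.bc g G) where
  toEquiv := (Over.mapPullbackAdj g).homEquiv T G
  map_mul' x y := AlgGrp.Action.homEquiv_mul (f := g) x y

theorem comp_word_eq_one {a : RWord G} (h : ∀ T : Over S', ∀ x : (Over.map g).obj T ⟶ a.P, x ≫ a.w = 1) :
    pullback.fst a.P.hom g ≫ a.w.left = pullback.fst a.P.hom g ≫ (1 : a.P ⟶ G).left := by
  have h1 := h (Over.mk (pullback.snd a.P.hom g)) (Over.homMk (pullback.fst a.P.hom g) pullback.condition)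
  have h2 := congrArg CommaMorphism.left h1
  rw [← MonObj.comp_one (Over.homMk (pullback.fst a.P.hom g) pullback.condition :
    (Over.map g).obj (Over.mk (pullback.snd a.P.hom g)) ⟶ a.P)] at h2
  exact h2

theorem word_eq_one_of_generic {A : Type u} [CommRing A] (K : Type u) [Field K] [Algebra A K] [IsFractionRing A K]
    {H : Over (Spec (CommRingCat.of A))} [GrpObj H] [IsSeparated H.hom] (a : RWord H) [Flat a.P.hom]
    (h : ∀ T : Over (Spec (CommRingCat.of K)),
      ∀ x : (Over.map (Spec.map (CommRingCat.ofHom (algebraMap A K)))).obj T ⟶ a.P, x ≫ a.w = 1) : a.w = 1 :=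
  Over.OverMorphism.ext (eq_of_agree_generic_fibre K a.P.hom H.hom _ _ (Over.w a.w) (Over.w _) (comp_word_eq_one H _ h))

theorem specialFibre_of_genericFibre (A : Type u) [CommRing A] [IsDomain A] [IsLocalRing A]
    (K : Type u) [Field K] [Algebra A K] [IsFractionRing A K]
    (G : Over (Spec (CommRingCat.of A))) [GrpObj G] [Flat G.hom] [IsSeparated G.hom] :
    (AGF.IsNilpotentGrp (Red.bc (Spec.map (CommRingCat.ofHom (algebraMap A K))) G) → AGF.IsNilpotentGrp (Red.bc (Spec.map (CommRingCat.ofHom (algebraMap A (IsLocalRing.ResidueField A)))) G)) ∧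
    (Red.IsSolvableGrp (Red.bc (Spec.map (CommRingCat.ofHom (algebraMap A K))) G) → Red.IsSolvableGrp (Red.bc (Spec.map (CommRingCat.ofHom (algebraMap A (IsLocalRing.ResidueField A)))) G)) := by
  constructor
  · rintro ⟨n, hn⟩
    refine ⟨n, fun X => ?_⟩
    haveI : Flat (lW G n).P.hom := prop_lW @Flat ‹_› n
    have hw : (lW G n).w = 1 := word_eq_one_of_generic K (lW G n) fun T x => by
      refine (lowerCentralSeries_eq_bot_iff _ n).1 ?_ x
      rw [lowerCentralSeries_congr (bcEquiv G _ T), Subgroup.lowerCentralSeries_eq_bot_iff_upperCentralSeries_eq_top]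
      exact hn T
    rw [← Subgroup.lowerCentralSeries_eq_bot_iff_upperCentralSeries_eq_top, ← lowerCentralSeries_congr (bcEquiv G _ X),
      lowerCentralSeries_eq_bot_iff]
    exact fun x => by rw [hw, MonObj.comp_one]
  · rintro ⟨n, hn⟩
    refine ⟨n, fun X => ?_⟩
    haveI : Flat (dW G n).P.hom := prop_dW @Flat ‹_› n
    have hw : (dW G n).w = 1 := word_eq_one_of_generic K (dW G n) fun T x => by
      refine (derivedSeries_eq_bot_iff _ n).1 ?_ x
      rw [derivedSeries_congr (bcEquiv G _ T)]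
      exact hn T
    rw [← derivedSeries_congr (bcEquiv G _ X), derivedSeries_eq_bot_iff]
    exact fun x => by rw [hw, MonObj.comp_one]

end Groth.Sga3.Solvable
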