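import Groth.Agent.Sga3.Solvable.GroupBound
import Groth.Agent.GrpschAbsch.IdComp
import Groth.Agent.AlgGrp1.Points
import Groth.Agent.AlgGrp1.Basic

/-!
Bounds for the derived length and the nilpotency class of the group of rational points of a group
scheme locally of finite type over an algebraically closed field.
-/

set_option autoImplicit false
set_option linter.style.haveILetI false

universe u

open CategoryTheory CategoryTheory.Limits MonoidalCategory CartesianMonoidalCategory MonObj GrpObj
  AlgebraicGeometry TopologicalSpace Topology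
open scoped commutatorElement

noncomputable section

namespace Groth.Sga3.Solvable

open Groth.Sga3.GroupBound

variable {K : Type u} [Field K] [IsAlgClosed K] (G : Over (Spec (CommRingCat.of K))) [GrpObj G]

/-- The group of rational points. -/
abbrev Pts : Type u := Groth.AlgGrp1.specAlg K K ⟶ G

/-- The point of a rational point. -/
def ptMap (g : Pts G) : G.left := g.left.base (IsLocalRing.closedPoint K)

@[implicit_reducible]
def ptsTopology : TopologicalSpace (Pts G) := TopologicalSpace.induced (ptMap G) inferInstance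

theorem ptMap_comp (g : Pts G) (φ : G ⟶ G) : ptMap G (g ≫ φ) = φ.left.base (ptMap G g) :=
  Scheme.Hom.comp_apply _ _ _

theorem continuous_comp (φ : G ⟶ G) {F : Pts G → Pts G} (hF : ∀ g, F g = g ≫ φ) :
    @Continuous _ _ (ptsTopology G) (ptsTopology G) F := by
  letI := ptsTopology G
  refine continuous_induced_rng.2 ?_
  have : ptMap G ∘ F = φ.left.base ∘ ptMap G := funext fun g => by
    show ptMap G (F g) = _
    rw [hF, ptMap_comp]; rfl
  rw [this]
  exact φ.left.continuous.comp continuous_induced_dom

/-- A rational point as a global section. -/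
def sec (a : Pts G) : 𝟙_ (Over (Spec (CommRingCat.of K))) ⟶ G :=
  Over.homMk a.left ((Over.w a).trans (by
    show Spec.map _ = 𝟙 _
    rw [Algebra.algebraMap_self]
    exact Spec.map_id _))

theorem comp_sec (g a : Pts G) : g ≫ toUnit G ≫ sec G a = a := by
  rw [← Category.assoc, comp_toUnit]
  apply Over.OverMorphism.ext
  show (toUnit (Groth.AlgGrp1.specAlg K K)).left ≫ a.left = a.left
  have : (toUnit (Groth.AlgGrp1.specAlg K K)).left = 𝟙 (Spec (CommRingCat.of K)) := by
    have h := Over.w (toUnit (Groth.AlgGrp1.specAlg K K))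
    refine ((Category.comp_id _).symm.trans h).trans ?_
    show Spec.map _ = 𝟙 _
    rw [Algebra.algebraMap_self]
    exact Spec.map_id _
  rw [this]
  exact Category.id_comp _

theorem isZariskiGroup : @IsZariskiGroup (Pts G) _ (ptsTopology G) := by
  letI := ptsTopology G
  exact {
  mul_left a := continuous_comp G ((toUnit G ≫ sec G a) * 𝟙 G) fun g => by
    rw [MonObj.comp_mul, Category.comp_id, comp_sec]
  mul_right a := continuous_comp G (𝟙 G * (toUnit G ≫ sec G a)) fun g => by
    rw [MonObj.comp_mul, Category.comp_id, comp_sec]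
  inv := continuous_comp G (𝟙 G)⁻¹ fun g => by rw [GrpObj.comp_inv, Category.comp_id]
  comm a := continuous_comp G (𝟙 G * (toUnit G ≫ sec G a) * (𝟙 G)⁻¹ * (toUnit G ≫ sec G a)⁻¹) fun g => by
    simp only [MonObj.comp_mul, GrpObj.comp_inv, Category.comp_id, comp_sec, commutatorElement_def] }

variable [LocallyOfFiniteType G.hom]

theorem ptMap_injective : Function.Injective (ptMap G) := fun g h e =>
  Over.OverMorphism.ext (ext_of_apply_closedPoint_eq (f := g.left) (g := h.left) G.hom
    ((Over.w g).trans (by show Spec.map _ = 𝟙 _; rw [Algebra.algebraMap_self]; exact Spec.map_id _))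
    ((Over.w h).trans (by show Spec.map _ = 𝟙 _; rw [Algebra.algebraMap_self]; exact Spec.map_id _)) e)

theorem isClosed_ptMap (g : Pts G) : IsClosed {ptMap G g} := by
  let p : {p : Spec (CommRingCat.of K) ⟶ G.left // p ≫ G.hom = 𝟙 _} :=
    ⟨g.left, (Over.w g).trans (by show Spec.map _ = 𝟙 _; rw [Algebra.algebraMap_self]; exact Spec.map_id _)⟩
  exact (pointEquivClosedPoint G.hom p).2

theorem exists_ptMap_eq {x : G.left} (hx : IsClosed {x}) : ∃ g : Pts G, ptMap G g = x :=
  Groth.AlgGrp1.exists_point_over_closed K G x hx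

theorem bound {d c : ℕ} (hd : topologicalKrullDim G.left ≤ d)
    (hc : ENat.card (ConnectedComponents G.left) ≤ c) :
    (IsSolvable (Pts G) → derivedSeries (Pts G) (c + d) = ⊥) ∧
      (Group.IsNilpotent (Pts G) → (⊤ : Subgroup (Pts G)).lowerCentralSeries (c + d) = ⊥) := by
  letI := ptsTopology G
  have hind : IsInducing (ptMap G) := ⟨rfl⟩
  have hH := isZariskiGroup G
  haveI : T1Space (Pts G) := ⟨fun g => by
    have h := (isClosed_ptMap G g).preimage hind.continuous
    rwa [show ptMap G ⁻¹' {ptMap G g} = {g} from Set.ext fun x => (ptMap_injective G).eq_iff] at h⟩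
  haveI : JacobsonSpace G.left := LocallyOfFiniteType.jacobsonSpace G.hom
  have hdH : topologicalKrullDim (Pts G) ≤ d := hind.topologicalKrullDim_le.trans hd
  let C := connectedComponent (ptMap G 1)
  have hCo : IsOpen C := GrpschAbsch.isOpen_connectedComponent' G _
  have hmap : ∀ (φ : G ⟶ G) (g : Pts G), ptMap G (g ≫ φ) ∈ connectedComponent (ptMap G (1 ≫ φ)) ∨ ptMap G g ∉ C :=
    fun φ g => by
      by_cases hg : ptMap G g ∈ C
      · refine Or.inl ?_
        rw [ptMap_comp, ptMap_comp]
        exact φ.left.continuous.image_connectedComponent_subset _ ⟨_, hg, rfl⟩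
      · exact Or.inr hg
  have htr : ∀ a g : Pts G, ptMap G g ∈ C → ptMap G (a * g) ∈ connectedComponent (ptMap G a) := fun a g hg => by
    have h := (hmap ((toUnit G ≫ sec G a) * 𝟙 G) g).resolve_right (not_not.2 hg)
    rw [MonObj.comp_mul, MonObj.comp_mul, Category.comp_id, Category.comp_id, comp_sec, comp_sec, _root_.mul_one] at h
    exact h
  let N : Subgroup (Pts G) :=
    { carrier := {g | ptMap G g ∈ C}
      one_mem' := mem_connectedComponent
      mul_mem' := fun {a b} ha hb => by
        show ptMap G (a * b) ∈ C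
        have h := htr a b hb
        exact (connectedComponent_eq (show ptMap G a ∈ connectedComponent (ptMap G 1) from ha)).ge h
      inv_mem' := fun {a} ha => by
        show ptMap G a⁻¹ ∈ C
        have h := (hmap (𝟙 G)⁻¹ a).resolve_right (not_not.2 ha)
        rwa [GrpObj.comp_inv, GrpObj.comp_inv, Category.comp_id, Category.comp_id, inv_one] at h }
  have hN : N.Normal := ⟨fun a ha b => by
    show ptMap G (b * a * b⁻¹) ∈ C
    have h := (hmap ((toUnit G ≫ sec G b) * 𝟙 G * (toUnit G ≫ sec G b)⁻¹) a).resolve_right (not_not.2 ha)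
    simp only [MonObj.comp_mul, GrpObj.comp_inv, Category.comp_id, comp_sec, _root_.mul_one, mul_inv_cancel] at h
    exact h⟩
  have hNc : IsClosed (N : Set (Pts G)) := isClosed_connectedComponent.preimage hind.continuous
  have hNi : IsIrreducible (N : Set (Pts G)) := by
    refine ⟨⟨1, N.one_mem⟩, ?_⟩
    intro U V hU hV ⟨x, hx, hxU⟩ ⟨y, hy, hyV⟩
    obtain ⟨U', hU', rfl⟩ := hind.isOpen_iff.1 hU
    obtain ⟨V', hV', rfl⟩ := hind.isOpen_iff.1 hV
    obtain ⟨z, hzC, hzU, hzV⟩ := (GrpschAbsch.isIrreducible_connectedComponent G _).2 U' V' hU' hV'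
      ⟨_, hx, hxU⟩ ⟨_, hy, hyV⟩
    obtain ⟨w, hw, hwc⟩ := nonempty_inter_closedPoints (Z := C ∩ (U' ∩ V')) ⟨z, hzC, hzU, hzV⟩
      (hCo.inter (hU'.inter hV')).isLocallyClosed
    obtain ⟨g, rfl⟩ := exists_ptMap_eq G hwc
    exact ⟨g, hw.1, hw.2.1, hw.2.2⟩
  let q : (Pts G ⧸ N) → ConnectedComponents G.left := Quotient.lift (fun g => ConnectedComponents.mk (ptMap G g))
    fun a b hab => by
      have hab := QuotientGroup.leftRel_apply.1 hab
      refine ConnectedComponents.coe_eq_coe'.2 ?_
      have h := htr a (a⁻¹ * b) hab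
      rw [mul_inv_cancel_left] at h
      rw [← connectedComponent_eq h]
      exact mem_connectedComponent
  have hq : Function.Injective q := by
    intro a b
    induction a using QuotientGroup.induction_on with | H a => ?_
    induction b using QuotientGroup.induction_on with | H b => ?_
    intro hab
    rw [QuotientGroup.eq]
    show ptMap G (a⁻¹ * b) ∈ C
    have hmem : ptMap G b ∈ connectedComponent (ptMap G a) := ConnectedComponents.coe_eq_coe'.1 hab.symm
    let φ := (toUnit G ≫ sec G a⁻¹) * 𝟙 G
    have h2 := φ.left.continuous.image_connectedComponent_subset _ ⟨_, hmem, rfl⟩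
    rw [← ptMap_comp, ← ptMap_comp, MonObj.comp_mul, MonObj.comp_mul, Category.comp_id, Category.comp_id, comp_sec,
      comp_sec, inv_mul_cancel] at h2
    exact h2
  haveI : Finite (ConnectedComponents G.left) := ENat.card_lt_top.1 (hc.trans_lt (ENat.coe_lt_top c))
  haveI : Finite (Pts G ⧸ N) := Finite.of_injective q hq
  have hNf : N.FiniteIndex := Subgroup.finiteIndex_of_finite_quotient
  have hle : N.index ≤ c := by
    have h1 : Nat.card (Pts G ⧸ N) ≤ Nat.card (ConnectedComponents G.left) := Nat.card_le_card_of_injective q hq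
    rw [ENat.card_eq_coe_natCard] at hc
    exact h1.trans (by exact_mod_cast hc)
  constructor
  · intro hs
    exact le_bot_iff.1 ((derivedSeries_antitone _ (Nat.add_le_add_right hle d)).trans
      (derivedSeries_bound hH hdH hN hNc hNi hNf hs).le)
  · intro hn
    exact le_bot_iff.1 ((Subgroup.lowerCentralSeries_antitone _ (Nat.add_le_add_right hle d)).trans
      (lowerCentralSeries_bound hH hdH hN hNc hNi hNf hn).le)

end Groth.Sga3.Solvable
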