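import Groth.Agent.Sga3.Solvable.Words
import Groth.Agent.Sga3.Solvable.Points
import Groth.Agent.Sga3.NeutralGen.Basic
import Groth.Agent.FibreDim.BaseChange
import Groth.Agent.SpectralTopology.Spectral
import Groth.Agent.EtaleBase.Sections
import Groth.Agent.S1335
import Groth.Agent.S1339
import Groth.Prelude.Def_AGF
import Groth.Prelude.Def_ActBC

/-!
Solvability and nilpotency of the geometric fibres of a group scheme with smooth fibres.
-/

set_option autoImplicit false
set_option linter.style.haveILetI false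

universe u

open CategoryTheory CategoryTheory.Limits MonoidalCategory CartesianMonoidalCategory MonObj GrpObj
  AlgebraicGeometry TopologicalSpace Topology

noncomputable section

namespace Groth.Sga3.Solvable

variable {S : Scheme.{u}} (G : Over S) [GrpObj G]

/-- The rational points of a geometric fibre are the points of the group over the geometric point. -/
def ptsEquiv (s : S) : (gpT s ⟶ G) ≃* Pts (Red.geomFibre s G) where
  toEquiv := (Over.mapPullbackAdj (Red.geomPt s)).homEquiv _ G
  map_mul' x y := AlgGrp.Action.homEquiv_mul (f := Red.geomPt s) x y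

theorem derivedSeries_congr {A B : Type*} [Group A] [Group B] (e : A ≃* B) (n : ℕ) :
    derivedSeries A n = ⊥ ↔ derivedSeries B n = ⊥ := by
  rw [← map_derivedSeries_eq (f := e.toMonoidHom) e.surjective, Subgroup.map_eq_bot_iff_of_injective _ e.injective]

theorem lowerCentralSeries_congr {A B : Type*} [Group A] [Group B] (e : A ≃* B) (n : ℕ) :
    (⊤ : Subgroup A).lowerCentralSeries n = ⊥ ↔ (⊤ : Subgroup B).lowerCentralSeries n = ⊥ := by
  rw [← Subgroup.map_top_of_surjective e.toMonoidHom e.surjective, ← Subgroup.map_lowerCentralSeries,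
    Subgroup.map_eq_bot_iff_of_injective _ e.injective]

/-- The set of points whose geometric fibre satisfies all words up to the given one. -/
def solvLE (n : ℕ) : Set S := {s | derivedSeries (gpT s ⟶ G) n = ⊥}

/-- Points with geometric fibre nilpotent of class at most `n`. -/
def nilLE (n : ℕ) : Set S := {s | (⊤ : Subgroup (gpT s ⟶ G)).lowerCentralSeries n = ⊥}

theorem solvLE_mono : Monotone (solvLE G) := fun _ _ h _ hs =>
  le_bot_iff.1 ((derivedSeries_antitone _ h).trans hs.le)

theorem nilLE_mono : Monotone (nilLE G) := fun _ _ h _ hs =>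
  le_bot_iff.1 ((Subgroup.lowerCentralSeries_antitone _ h).trans hs.le)

section Fibre

variable {G} {s : S} (hsm : Smooth (G.hom.fiberToSpecResidueField s))

include hsm in
theorem smooth_geomFibre : Smooth (Red.geomFibre s G).hom := by
  let b := Spec.map (CommRingCat.ofHom (algebraMap (S.residueField s) (AlgebraicClosure (S.residueField s))))
  haveI : Smooth (pullback.snd G.hom (S.fromSpecResidueField s)) := hsm
  have h : IsPullback (pullback.lift (pullback.fst G.hom (Red.geomPt s)) (pullback.snd _ _ ≫ b)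
      (by rw [Category.assoc]; exact pullback.condition))
      (pullback.snd G.hom (Red.geomPt s)) (pullback.snd G.hom (S.fromSpecResidueField s)) b := by
    refine IsPullback.of_right ?_ (pullback.lift_snd _ _ _) (IsPullback.of_hasPullback G.hom (S.fromSpecResidueField s))
    rw [pullback.lift_fst]
    exact IsPullback.of_hasPullback G.hom (Red.geomPt s)
  exact MorphismProperty.of_isPullback h (P := @Smooth) inferInstance

include hsm in
theorem isSolvableGrp_iff : Red.IsSolvableGrp (Red.geomFibre s G) ↔ ∃ n, s ∈ solvLE G n := by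
  haveI := smooth_geomFibre hsm
  refine exists_congr fun n => ⟨fun h => (derivedSeries_congr (ptsEquiv G s) n).2 (h _), fun h T => ?_⟩
  have h' := (derivedSeries_congr (ptsEquiv G s) n).1 h
  haveI := Groth.Sga3.PointsSolvable.smooth_dWord (Red.geomFibre s G) n
  rw [Groth.Sga3.PointsSolvable.derivedSeries_eq] at h' ⊢
  exact Groth.Sga3.PointsSolvable.closure_values_eq_bot (Red.geomFibre s G) _ _ h' T

include hsm in
theorem isNilpotentGrp_iff : AGF.IsNilpotentGrp (Red.geomFibre s G) ↔ ∃ n, s ∈ nilLE G n := by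
  haveI := smooth_geomFibre hsm
  refine exists_congr fun n => ⟨fun h => (lowerCentralSeries_congr (ptsEquiv G s) n).2
    (Subgroup.lowerCentralSeries_eq_bot_iff_upperCentralSeries_eq_top.2 (h _)), fun h T => ?_⟩
  rw [← Subgroup.lowerCentralSeries_eq_bot_iff_upperCentralSeries_eq_top]
  have h' := (lowerCentralSeries_congr (ptsEquiv G s) n).1 h
  haveI := Groth.Sga3.PointsSolvable.smooth_lWord (Red.geomFibre s G) n
  rw [Groth.Sga3.PointsSolvable.lowerCentralSeries_eq] at h' ⊢
  exact Groth.Sga3.PointsSolvable.closure_values_eq_bot (Red.geomFibre s G) _ _ h' T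

end Fibre

variable [LocallyOfFinitePresentation G.hom] [QuasiCompact G.hom] [QuasiSeparated G.hom]

omit [QuasiCompact G.hom] [QuasiSeparated G.hom] in
theorem dim_bc_field {K : Type u} [Field K] (tK : Spec (CommRingCat.of K) ⟶ S) :
    topologicalKrullDim ↥(Red.bc tK G).left =
      topologicalKrullDim ↥(G.hom.base ⁻¹' {tK.base (IsLocalRing.closedPoint K)}) := by
  haveI : LocallyOfFiniteType (Red.bc tK G).hom := inferInstanceAs (LocallyOfFiniteType (pullback.snd G.hom tK))
  let x : (Red.bc tK G).left := (η[Red.bc tK G].left).base (IsLocalRing.closedPoint K)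
  have huniv : (Red.bc tK G).hom.base ⁻¹' {(Red.bc tK G).hom.base x} = Set.univ := Set.eq_univ_of_forall fun y =>
    Subsingleton.elim (α := PrimeSpectrum K) _ _
  have hbc := Groth.FibreDim.fibreDimAt_baseChange G.hom tK (Red.bc tK G).hom (pullback.fst G.hom tK)
    (IsPullback.of_hasPullback G.hom tK) x
  have h1 := Groth.Sga3.NeutralGen.fibreDimAt_eq_dim (G := Red.bc tK G) x
  rw [huniv, hbc, Groth.Sga3.NeutralGen.fibreDimAt_eq_dim] at h1
  have hs : G.hom.base ((pullback.fst G.hom tK).base x) = tK.base (IsLocalRing.closedPoint K) := by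
    rw [← Scheme.Hom.comp_apply, pullback.condition, Scheme.Hom.comp_apply]
    exact congrArg tK.base (Subsingleton.elim (α := PrimeSpectrum K) _ _)
  rw [hs] at h1
  rw [h1]
  exact ((Homeomorph.Set.univ _).symm).isHomeomorph.topologicalKrullDim_eq

theorem card_components_bc_le {K : Type u} [Field K] (tK : Spec (CommRingCat.of K) ⟶ S) :
    ENat.card (_root_.ConnectedComponents ↥(Red.bc tK G).left) ≤
      MoreMor.nGeomConnComp G.hom (tK.base (IsLocalRing.closedPoint K)) := by
  let f' := (Red.bc tK G).hom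
  let pt : ↥(Spec (CommRingCat.of K)) := IsLocalRing.closedPoint K
  have hbc := Groth.Agent.S1335.result G.hom f' (pullback.fst G.hom tK) tK (IsPullback.of_hasPullback G.hom tK) pt
  rw [← hbc]
  let Kpt := (Spec (CommRingCat.of K)).residueField pt
  let b := Spec.map (CommRingCat.ofHom (algebraMap Kpt (SeparableClosure Kpt)))
  let p : MoreMor.geomFiber f' pt ⟶ (Red.bc tK G).left := pullback.fst (f'.fiberToSpecResidueField pt) b ≫ f'.fiberι pt
  have hp : Function.Surjective p.base := by
    haveI : Surjective b := ⟨fun _ => ⟨IsLocalRing.closedPoint _, Subsingleton.elim (α := PrimeSpectrum Kpt) _ _⟩⟩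
    intro y
    obtain ⟨z, hz⟩ : y ∈ Set.range (f'.fiberι pt).base :=
      (f'.range_fiberι pt).ge (Subsingleton.elim (α := PrimeSpectrum K) _ _)
    obtain ⟨w, hw⟩ := (pullback.fst (f'.fiberToSpecResidueField pt) b).surjective z
    exact ⟨w, (Scheme.Hom.comp_apply _ _ _).trans ((congrArg (f'.fiberι pt).base hw).trans hz)⟩
  have hsurj : Function.Surjective p.continuous.connectedComponentsMap := fun c => ?_
  · exact ENat.card_le_card_of_injective (Function.injective_surjInv hsurj)
  obtain ⟨y, rfl⟩ := _root_.ConnectedComponents.surjective_coe c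
  obtain ⟨w, rfl⟩ := hp y
  exact ⟨_root_.ConnectedComponents.mk w, rfl⟩

omit [GrpObj G] [LocallyOfFinitePresentation G.hom] [QuasiCompact G.hom] [QuasiSeparated G.hom] in
theorem comp_fromSpec_apply {K : Type u} [Field K] (s : S) (b : Spec (CommRingCat.of K) ⟶ Spec (S.residueField s))
    (x : ↥(Spec (CommRingCat.of K))) : (b ≫ S.fromSpecResidueField s).base x = s := by
  rw [Scheme.Hom.comp_apply]
  exact Scheme.fromSpecResidueField_apply _ _

omit [GrpObj G] [LocallyOfFinitePresentation G.hom] [QuasiCompact G.hom] [QuasiSeparated G.hom] in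
theorem isLocallyConstructible_compl {X : Type u} [TopologicalSpace X] {E : Set X}
    (h : IsLocallyConstructible E) : IsLocallyConstructible Eᶜ := fun x => by
  obtain ⟨U, hxU, hU, H⟩ := h x
  exact ⟨U, hxU, hU, by rw [Set.preimage_compl]; exact H.compl⟩

omit [GrpObj G] in
theorem nGeomConnComp_ne_top (s : S) : MoreMor.nGeomConnComp G.hom s ≠ ⊤ := by
  let b := Spec.map (CommRingCat.ofHom (algebraMap (S.residueField s) (SeparableClosure (S.residueField s))))
  haveI : LocallyOfFiniteType (G.hom.fiberToSpecResidueField s) :=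
    inferInstanceAs (LocallyOfFiniteType (pullback.snd G.hom (S.fromSpecResidueField s)))
  haveI : QuasiCompact (G.hom.fiberToSpecResidueField s) :=
    inferInstanceAs (QuasiCompact (pullback.snd G.hom (S.fromSpecResidueField s)))
  haveI : LocallyOfFiniteType (pullback.snd (G.hom.fiberToSpecResidueField s) b) :=
    MorphismProperty.pullback_snd _ _ inferInstance
  haveI : QuasiCompact (pullback.snd (G.hom.fiberToSpecResidueField s) b) :=
    MorphismProperty.pullback_snd _ _ inferInstance
  let q : MoreMor.geomFiber G.hom s ⟶ Spec (CommRingCat.of (SeparableClosure (S.residueField s))) :=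
    pullback.snd (G.hom.fiberToSpecResidueField s) b
  haveI : LocallyOfFiniteType q := ‹LocallyOfFiniteType (pullback.snd (G.hom.fiberToSpecResidueField s) b)›
  haveI : QuasiCompact q := ‹QuasiCompact (pullback.snd (G.hom.fiberToSpecResidueField s) b)›
  haveI : IsLocallyNoetherian (MoreMor.geomFiber G.hom s) := LocallyOfFiniteType.isLocallyNoetherian q
  haveI : CompactSpace ↥(MoreMor.geomFiber G.hom s) := QuasiCompact.compactSpace_of_compactSpace q
  haveI : IsNoetherian (MoreMor.geomFiber G.hom s) := {}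
  haveI := Groth.EtaleBase.finite_connectedComponents ↥(MoreMor.geomFiber G.hom s)
  exact ENat.card_lt_top.2 inferInstance |>.ne

omit [GrpObj G] [LocallyOfFinitePresentation G.hom] [QuasiCompact G.hom] [QuasiSeparated G.hom] in
theorem exists_finite_constructible_cover {X : Type u} [TopologicalSpace X] [CompactSpace X] [QuasiSober X]
    [PrespectralSpace X] [QuasiSeparatedSpace X] (L : ℕ → Set X) (hL : ∀ n, IsConstructible (L n)) (h : ∀ x, ∃ n, x ∈ L n) :
    ∃ t : Finset ℕ, ∀ x, ∃ n ∈ t, x ∈ L n := by
  obtain ⟨t, ht⟩ := @IsCompact.elim_finite_subcover X (constructibleTopology X) Set.univ ℕ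
    (@isCompact_univ X (constructibleTopology X) Groth.SpectralTopology.compactSpace_ct) L
    (fun n => (Groth.SpectralTopology.isClopen_ct_of_isConstructible (hL n)).2)
    (fun x _ => Set.mem_iUnion.2 (h x))
  exact ⟨t, fun x => by simpa using ht (Set.mem_univ x)⟩

theorem exists_bound {V : S.Opens} (hV : IsAffineOpen V) :
    ∃ N : ℕ, ∀ s ∈ V, ((∃ n, s ∈ solvLE G n) → s ∈ solvLE G N) ∧ ((∃ n, s ∈ nilLE G n) → s ∈ nilLE G N) := by
  classical
  -- dimension
  obtain ⟨tD, htD⟩ := hV.isCompact.elim_finite_subcover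
    (fun n : ℕ => {s : S | topologicalKrullDim ↥(G.hom.base ⁻¹' {s}) ≤ n}) (Groth.FibreDim.isOpen_dim_le G)
    (fun s _ => by
      obtain ⟨n, hn, -⟩ := Groth.FibreDim.dim_fiber_eq_unit G s
      exact Set.mem_iUnion.2 ⟨n, hn.le⟩)
  -- components
  haveI : IsAffine V.toScheme := hV
  let L : ℕ → Set V.toScheme := fun n => V.ι.base ⁻¹' {s : S | MoreMor.nGeomConnComp G.hom s = n}
  have hLc : ∀ n, IsConstructible (L n) := fun n =>
    ((Groth.Agent.S1339.result G.hom (n : ℕ∞)).preimage_of_isOpenEmbedding V.ι.isOpenEmbedding).isConstructible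
  obtain ⟨tC, htC⟩ := exists_finite_constructible_cover L hLc fun v => by
    obtain ⟨n, hn⟩ := ENat.ne_top_iff_exists.1 (nGeomConnComp_ne_top G (V.ι.base v))
    exact ⟨n, hn.symm⟩
  refine ⟨tC.sup id + tD.sup id, fun s hs => ?_⟩
  haveI : LocallyOfFiniteType (Red.geomFibre s G).hom :=
    inferInstanceAs (LocallyOfFiniteType (pullback.snd G.hom (Red.geomPt s)))
  obtain ⟨d, hd, hds⟩ := Set.mem_iUnion₂.1 (htD hs)
  obtain ⟨c, hc, hcs⟩ := htC (⟨s, hs⟩ : V.toScheme)
  have hb := bound (Red.geomFibre s G) (d := d) (c := c) (((dim_bc_field G (Red.geomPt s)).trans (by rw [comp_fromSpec_apply])).le.trans hds)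
    (((card_components_bc_le G (Red.geomPt s)).trans (le_of_eq (by rw [comp_fromSpec_apply]; rfl))).trans (hcs : MoreMor.nGeomConnComp G.hom s = c).le)
  have hle : c + d ≤ tC.sup id + tD.sup id :=
    Nat.add_le_add (Finset.le_sup (f := id) hc) (Finset.le_sup (f := id) hd)
  constructor
  · rintro ⟨n, hn⟩
    exact solvLE_mono G hle ((derivedSeries_congr (ptsEquiv G s) _).2
      (hb.1 ⟨⟨n, (derivedSeries_congr (ptsEquiv G s) n).1 hn⟩⟩))
  · rintro ⟨n, hn⟩
    exact nilLE_mono G hle ((lowerCentralSeries_congr (ptsEquiv G s) _).2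
      (hb.2 (nilpotent_iff_lowerCentralSeries.2 ⟨n, (lowerCentralSeries_congr (ptsEquiv G s) n).1 hn⟩)))

theorem iUnion_eq_on {Z : ℕ → Set S} {V : Set S} {N : ℕ} (h : ∀ s ∈ V, (∃ n, s ∈ Z n) → s ∈ Z N) :
    (⋃ n, Z n) ∩ V = Z N ∩ V := by
  ext s
  exact ⟨fun ⟨h1, h2⟩ => ⟨h s h2 (Set.mem_iUnion.1 h1), h2⟩, fun ⟨h1, h2⟩ => ⟨Set.mem_iUnion.2 ⟨N, h1⟩, h2⟩⟩

omit [QuasiCompact G.hom] [QuasiSeparated G.hom] in
theorem solvLE_eq_compl [LocallyOfFiniteType G.hom] (n : ℕ) :
    solvLE G n = ((dW G n).P.hom.base '' (oneSet (dW G n))ᶜ)ᶜ := by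
  haveI : LocallyOfFiniteType (dW G n).P.hom := prop_dW @LocallyOfFiniteType ‹_› n
  ext s
  exact (derivedSeries_eq_bot_iff _ n).trans (forall_gpT_iff (dW G n) s)

omit [QuasiCompact G.hom] [QuasiSeparated G.hom] in
theorem nilLE_eq_compl [LocallyOfFiniteType G.hom] (n : ℕ) :
    nilLE G n = ((lW G n).P.hom.base '' (oneSet (lW G n))ᶜ)ᶜ := by
  haveI : LocallyOfFiniteType (lW G n).P.hom := prop_lW @LocallyOfFiniteType ‹_› n
  ext s
  exact (lowerCentralSeries_eq_bot_iff _ n).trans (forall_gpT_iff (lW G n) s)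

theorem isLocallyConstructible_LE (n : ℕ) :
    IsLocallyConstructible (solvLE G n) ∧ IsLocallyConstructible (nilLE G n) := by
  rw [solvLE_eq_compl, nilLE_eq_compl]
  constructor
  · haveI : LocallyOfFinitePresentation (dW G n).P.hom := prop_dW @LocallyOfFinitePresentation ‹_› n
    haveI : QuasiCompact (dW G n).P.hom := prop_dW @QuasiCompact ‹_› n
    exact isLocallyConstructible_compl ((dW G n).P.hom.isLocallyConstructible_image (isLocallyConstructible_compl (isLocallyConstructible_oneSet (dW G n))))
  · haveI : LocallyOfFinitePresentation (lW G n).P.hom := prop_lW @LocallyOfFinitePresentation ‹_› n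
    haveI : QuasiCompact (lW G n).P.hom := prop_lW @QuasiCompact ‹_› n
    exact isLocallyConstructible_compl ((lW G n).P.hom.isLocallyConstructible_image (isLocallyConstructible_compl (isLocallyConstructible_oneSet (lW G n))))

omit [LocallyOfFinitePresentation G.hom] [QuasiCompact G.hom] [QuasiSeparated G.hom] in
theorem isClosed_LE [Smooth G.hom] [IsSeparated G.hom] (n : ℕ) :
    IsClosed (solvLE G n) ∧ IsClosed (nilLE G n) := by
  rw [solvLE_eq_compl, nilLE_eq_compl]
  constructor
  · haveI : Smooth (dW G n).P.hom := prop_dW @Smooth ‹_› n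
    exact ((dW G n).P.hom.isOpenMap _ (isClosed_oneSet (dW G n)).isOpen_compl).isClosed_compl
  · haveI : Smooth (lW G n).P.hom := prop_lW @Smooth ‹_› n
    exact ((lW G n).P.hom.isOpenMap _ (isClosed_oneSet (lW G n)).isOpen_compl).isClosed_compl

end Groth.Sga3.Solvable
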