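import Mathlib.GroupTheory.Solvable
import Mathlib.GroupTheory.Nilpotent
import Mathlib.GroupTheory.Index
import Mathlib.Topology.KrullDimension
import Mathlib.Topology.Irreducible
import Mathlib.Topology.Separation.Basic

/-!
Bounds for the derived length and the nilpotency class of a group with a Zariski-like topology.
-/

set_option autoImplicit false

universe u

open scoped commutatorElement
open TopologicalSpace Order

namespace Groth.Sga3.GroupBound

/-- The continuity of the operations one has for the points of an algebraic group. -/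
structure IsZariskiGroup (H : Type u) [Group H] [TopologicalSpace H] : Prop where
  mul_left : ∀ a : H, Continuous fun x => a * x
  mul_right : ∀ a : H, Continuous fun x => x * a
  inv : Continuous fun x : H => x⁻¹
  comm : ∀ a : H, Continuous fun x : H => ⁅x, a⁆

variable {H : Type u} [Group H] [TopologicalSpace H] (hH : IsZariskiGroup H)

include hH

/-- The closure of a subgroup. -/
def clo (K : Subgroup H) : Subgroup H where
  carrier := closure (K : Set H)
  one_mem' := subset_closure K.one_mem
  inv_mem' {x} hx := map_mem_closure hH.inv hx fun _ h => K.inv_mem h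
  mul_mem' {x y} hx hy := by
    have h1 : ∀ k ∈ (K : Set H), x * k ∈ closure (K : Set H) := fun k hk =>
      map_mem_closure (f := fun y : H => y * k) (hH.mul_right k) hx fun _ h => K.mul_mem h hk
    have h2 := map_mem_closure (hH.mul_left x) hy h1
    rwa [closure_closure] at h2

theorem le_clo (K : Subgroup H) : K ≤ clo hH K := fun _ h => subset_closure h

theorem isClosed_clo (K : Subgroup H) : IsClosed (clo hH K : Set H) := isClosed_closure

theorem clo_mono {K L : Subgroup H} (h : K ≤ L) : clo hH K ≤ clo hH L := closure_mono (s := (K : Set H)) h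

theorem clo_le {K L : Subgroup H} (h : K ≤ L) (hL : IsClosed (L : Set H)) : clo hH K ≤ L :=
  closure_minimal (s := (K : Set H)) h hL

theorem normal_clo {K : Subgroup H} (hK : K.Normal) : (clo hH K).Normal where
  conj_mem x hx g := map_mem_closure (f := fun y : H => g * y * g⁻¹) ((hH.mul_right g⁻¹).comp (hH.mul_left g)) hx fun _ h => hK.conj_mem _ h g

theorem commutator_clo_le (A B : Subgroup H) : ⁅clo hH A, clo hH B⁆ ≤ clo hH ⁅A, B⁆ := by
  refine Subgroup.commutator_le.2 fun a ha b hb => ?_
  have h1 : ∀ b' ∈ (B : Set H), ⁅a, b'⁆ ∈ closure ((⁅A, B⁆ : Subgroup H) : Set H) := fun b' hb' =>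
    map_mem_closure (f := fun y : H => ⁅y, b'⁆) (hH.comm b') ha fun a' ha' => Subgroup.commutator_mem_commutator ha' hb'
  have hc : Continuous fun y : H => ⁅a, y⁆ := by
    have : (fun y : H => ⁅a, y⁆) = fun y => (⁅y, a⁆)⁻¹ := funext fun y => (commutatorElement_inv y a).symm
    rw [this]
    exact hH.inv.comp (hH.comm a)
  have h2 := map_mem_closure hc hb h1
  rwa [closure_closure] at h2

theorem isPreirreducible_mul {A B : Set H} (hA : IsPreirreducible A) (hB : IsPreirreducible B) :
    IsPreirreducible (Set.image2 (· * ·) A B) := by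
  rintro U V hU hV ⟨_, ⟨a₁, ha₁, b₁, hb₁, rfl⟩, h₁⟩ ⟨_, ⟨a₂, ha₂, b₂, hb₂, rfl⟩, h₂⟩
  obtain ⟨a, ha, haU, haV⟩ := hA ((fun x => x * b₁) ⁻¹' U) ((fun x => x * b₂) ⁻¹' V) (hU.preimage (hH.mul_right b₁))
    (hV.preimage (hH.mul_right b₂)) ⟨a₁, ha₁, h₁⟩ ⟨a₂, ha₂, h₂⟩
  obtain ⟨b, hb, hbU, hbV⟩ := hB _ _ (hU.preimage (hH.mul_left a)) (hV.preimage (hH.mul_left a))
    ⟨b₁, hb₁, haU⟩ ⟨b₂, hb₂, haV⟩
  exact ⟨a * b, ⟨a, ha, b, hb, rfl⟩, hbU, hbV⟩

theorem isIrreducible_commutator {A : Subgroup H} (B : Subgroup H) (hA : IsPreirreducible (A : Set H)) :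
    IsIrreducible ((⁅A, B⁆ : Subgroup H) : Set H) := by
  let P : H → Prop := fun g => ∃ Q : Set H, IsPreirreducible Q ∧ (1 : H) ∈ Q ∧ Q ⊆ ((⁅A, B⁆ : Subgroup H) : Set H) ∧ g ∈ Q
  have hP : ∀ g ∈ ⁅A, B⁆, P g := by
    intro g hg
    rw [Subgroup.commutator_def] at hg
    induction hg using Subgroup.closure_induction with
    | mem g hg =>
      obtain ⟨a, ha, b, hb, rfl⟩ := hg
      refine ⟨(fun x => ⁅x, b⁆) '' (A : Set H), hA.image _ (hH.comm b).continuousOn,
        ⟨1, A.one_mem, commutatorElement_one_left b⟩, ?_, ⟨a, ha, rfl⟩⟩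
      rintro _ ⟨x, hx, rfl⟩
      exact Subgroup.commutator_mem_commutator hx hb
    | one => exact ⟨{1}, isPreirreducible_singleton, rfl,
        Set.singleton_subset_iff.2 (one_mem _), rfl⟩
    | mul x y _ _ hx hy =>
      obtain ⟨Q, hQ, h1, hQs, hxQ⟩ := hx
      obtain ⟨R, hR, h1', hRs, hyR⟩ := hy
      refine ⟨_, isPreirreducible_mul hH hQ hR, ⟨1, h1, 1, h1', one_mul 1⟩, ?_, ⟨x, hxQ, y, hyR, rfl⟩⟩
      rintro _ ⟨q, hq, r, hr, rfl⟩
      exact mul_mem (hQs hq) (hRs hr)
    | inv x _ hx =>
      obtain ⟨Q, hQ, h1, hQs, hxQ⟩ := hx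
      refine ⟨(fun z => z⁻¹) '' Q, hQ.image _ hH.inv.continuousOn, ⟨1, h1, inv_one⟩, ?_, ⟨x, hxQ, rfl⟩⟩
      rintro _ ⟨z, hz, rfl⟩
      exact inv_mem (hQs hz)
  refine ⟨⟨1, one_mem _⟩, ?_⟩
  rintro U V hU hV ⟨x, hx, hxU⟩ ⟨y, hy, hyV⟩
  obtain ⟨Q, hQ, h1, hQs, hxQ⟩ := hP x hx
  obtain ⟨R, hR, h1', hRs, hyR⟩ := hP y hy
  obtain ⟨z, ⟨q, hq, r, hr, rfl⟩, hz⟩ := isPreirreducible_mul hH hQ hR U V hU hV
    ⟨x, ⟨x, hxQ, 1, h1', mul_one x⟩, hxU⟩ ⟨y, ⟨1, h1, y, hyR, one_mul y⟩, hyV⟩
  exact ⟨q * r, mul_mem (hQs hq) (hRs hr), hz⟩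

omit hH in
/-- A strictly decreasing chain of irreducible closed subgroups is no longer than the dimension. -/
theorem chain_bot [T1Space H] {d : ℕ} (hd : topologicalKrullDim H ≤ d) (A : ℕ → Subgroup H)
    (hirr : ∀ i, IsIrreducible (A i : Set H)) (hcl : ∀ i, IsClosed (A i : Set H))
    (hlt : ∀ i, A i = ⊥ ∨ A (i + 1) < A i) (hbot : ∀ i, A i = ⊥ → A (i + 1) = ⊥) : A d = ⊥ := by
  by_contra hne
  have hall : ∀ i ≤ d, A i ≠ ⊥ := by
    intro i hi h
    have : ∀ j, A (i + j) = ⊥ := fun j => by
      induction j with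
      | zero => exact h
      | succ j ih => exact hbot _ ih
    exact hne (Nat.add_sub_cancel' hi ▸ this (d - i))
  let Z : Fin (d + 2) → IrreducibleCloseds H := fun i => ⟨A (d + 1 - i), hirr _, hcl _⟩
  let l : LTSeries (IrreducibleCloseds H) :=
    { length := d + 1
      toFun := Z
      step := fun i => by
        have hi : d + 1 - (i.val + 1) ≤ d := by omega
        have hlt' := (hlt _).resolve_left (hall _ hi)
        rw [show d + 1 - (i.val + 1) + 1 = d + 1 - i.val from by omega] at hlt'
        show Z i.castSucc < Z i.succ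
        exact (SetLike.coe_ssubset_coe.2 hlt' : (A _ : Set H) ⊂ _) }
  have h := (Order.LTSeries.length_le_krullDim l).trans hd
  have : d + 1 ≤ d := by exact_mod_cast h
  omega

omit hH in
theorem derivedSeries_le_of_index {N : Subgroup H} [N.Normal] (hN : N.FiniteIndex)
    (hsolv : Group.IsSolvable H) : derivedSeries H N.index ≤ N := by
  haveI : Finite (H ⧸ N) := Subgroup.finite_quotient_of_finiteIndex
  haveI : Group.IsSolvable (H ⧸ N) := solvable_of_surjective (QuotientGroup.mk'_surjective N)
  have key : ∀ i, derivedSeries (H ⧸ N) i = ⊥ ∨ Nat.card (derivedSeries (H ⧸ N) i) + i ≤ Nat.card (H ⧸ N) := by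
    intro i
    induction i with
    | zero => exact Or.inr (by simp [Subgroup.card_top])
    | succ i ih =>
      by_cases hb : derivedSeries (H ⧸ N) (i + 1) = ⊥
      · exact Or.inl hb
      rcases ih with h | h
      · exact absurd (le_bot_iff.1 ((derivedSeries_antitone _ i.le_succ).trans h.le)) hb
      · refine Or.inr ?_
        have hne : derivedSeries (H ⧸ N) i ≠ ⊥ := fun h => hb
          (le_bot_iff.1 ((derivedSeries_antitone _ i.le_succ).trans h.le))
        have hlt : derivedSeries (H ⧸ N) (i + 1) < derivedSeries (H ⧸ N) i := by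
          refine lt_of_le_of_ne (derivedSeries_antitone _ i.le_succ) fun he => ?_
          obtain ⟨n, hn⟩ := (inferInstance : Group.IsSolvable (H ⧸ N)).solvable
          have hst : ∀ j, derivedSeries (H ⧸ N) (i + j) = derivedSeries (H ⧸ N) i := fun j => by
            induction j with
            | zero => rfl
            | succ j ihj => rw [← Nat.add_assoc, derivedSeries_succ, ihj, ← derivedSeries_succ, he]
          exact hne (le_bot_iff.1 ((hst n).ge.trans ((derivedSeries_antitone _ (Nat.le_add_left n i)).trans hn.le)))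
        have hc : Nat.card (derivedSeries (H ⧸ N) (i + 1)) < Nat.card (derivedSeries (H ⧸ N) i) :=
          Set.Finite.card_lt_card (Set.toFinite _) hlt
        omega
  have h := key N.index
  rw [Subgroup.index] at h ⊢
  have hbot : derivedSeries (H ⧸ N) (Nat.card (H ⧸ N)) = ⊥ := by
    refine h.resolve_right fun hle => ?_
    have := Nat.card_pos (α := derivedSeries (H ⧸ N) (Nat.card (H ⧸ N)))
    omega
  rw [← map_derivedSeries_eq (QuotientGroup.mk'_surjective N), Subgroup.map_eq_bot_iff, QuotientGroup.ker_mk'] at hbot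
  exact hbot

omit hH in
theorem lowerCentralSeries_le_of_index {N : Subgroup H} [N.Normal] (hN : N.FiniteIndex)
    (hnil : Group.IsNilpotent H) : (⊤ : Subgroup H).lowerCentralSeries N.index ≤ N := by
  haveI : Finite (H ⧸ N) := Subgroup.finite_quotient_of_finiteIndex
  haveI := hnil
  haveI : Group.IsNilpotent (H ⧸ N) := nilpotent_of_surjective _ (QuotientGroup.mk'_surjective N)
  let D : ℕ → Subgroup (H ⧸ N) := (⊤ : Subgroup (H ⧸ N)).lowerCentralSeries
  have hanti : Antitone D := Subgroup.lowerCentralSeries_antitone (⊤ : Subgroup (H ⧸ N))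
  have key : ∀ i, D i = ⊥ ∨ Nat.card (D i) + i ≤ Nat.card (H ⧸ N) := by
    intro i
    induction i with
    | zero => exact Or.inr (by simp [D, Subgroup.card_top])
    | succ i ih =>
      by_cases hb : D (i + 1) = ⊥
      · exact Or.inl hb
      rcases ih with h | h
      · exact absurd (le_bot_iff.1 ((hanti i.le_succ).trans h.le)) hb
      · refine Or.inr ?_
        have hne : D i ≠ ⊥ := fun h => hb (le_bot_iff.1 ((hanti i.le_succ).trans h.le))
        have hlt : D (i + 1) < D i := by
          refine lt_of_le_of_ne (hanti i.le_succ) fun he => ?_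
          obtain ⟨n, hn⟩ := nilpotent_iff_lowerCentralSeries.1 (inferInstance : Group.IsNilpotent (H ⧸ N))
          have hst : ∀ j, D (i + j) = D i := fun j => by
            induction j with
            | zero => rfl
            | succ j ihj =>
              show D (i + j + 1) = D i
              simp only [D] at ihj he ⊢
              rw [Subgroup.lowerCentralSeries_succ, ihj, ← Subgroup.lowerCentralSeries_succ, he]
          exact hne (le_bot_iff.1 ((hst n).ge.trans ((hanti (Nat.le_add_left n i)).trans hn.le)))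
        have hc : Nat.card (D (i + 1)) < Nat.card (D i) := Set.Finite.card_lt_card (Set.toFinite _) hlt
        omega
  have h := key N.index
  rw [Subgroup.index] at h ⊢
  have hbot : D (Nat.card (H ⧸ N)) = ⊥ := by
    refine h.resolve_right fun hle => ?_
    have := Nat.card_pos (α := D (Nat.card (H ⧸ N)))
    omega
  intro x hx
  have := Subgroup.mem_map_of_mem (QuotientGroup.mk' N) hx
  rw [Subgroup.map_lowerCentralSeries, Subgroup.map_top_of_surjective _ (QuotientGroup.mk'_surjective N)] at this
  change QuotientGroup.mk' N x ∈ D (Nat.card (H ⧸ N)) at this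
  rw [hbot, Subgroup.mem_bot] at this
  exact (QuotientGroup.eq_one_iff x).1 this

variable [T1Space H] {d : ℕ} (hd : topologicalKrullDim H ≤ d)
  {N : Subgroup H} (hN : N.Normal) (hNc : IsClosed (N : Set H)) (hNi : IsIrreducible (N : Set H)) (hNf : N.FiniteIndex)

omit [T1Space H] in
theorem clo_bot [T1Space H] : clo hH ⊥ = ⊥ :=
  le_bot_iff.1 (clo_le hH le_rfl (by rw [Subgroup.coe_bot]; exact isClosed_singleton))

include hd hN hNc hNi hNf in
theorem derivedSeries_bound (hsolv : Group.IsSolvable H) : derivedSeries H (N.index + d) = ⊥ := by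
  let A : ℕ → Subgroup H := fun i => Nat.rec (motive := fun _ => Subgroup H) N (fun _ A => clo hH ⁅A, A⁆) i
  have hA : ∀ i, A (i + 1) = clo hH ⁅A i, A i⁆ := fun i => rfl
  have hirr : ∀ i, IsIrreducible ((A i : Subgroup H) : Set H) := fun i => by
    induction i with
    | zero => exact hNi
    | succ i ih => exact (isIrreducible_commutator hH _ ih.isPreirreducible).closure
  have hcl : ∀ i, IsClosed (A i : Set H) := fun i => by
    cases i with
    | zero => exact hNc
    | succ i => exact isClosed_closure
  have hsub : ∀ i, A (i + 1) ≤ A i := fun i =>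
    clo_le hH (Subgroup.commutator_le.2 fun a ha b hb => by
      rw [commutatorElement_def]
      exact mul_mem (mul_mem (mul_mem ha hb) (inv_mem ha)) (inv_mem hb)) (hcl i)
  have hlt : ∀ i, A i = ⊥ ∨ A (i + 1) < A i := fun i => by
    by_cases he : A (i + 1) = A i
    · refine Or.inl ?_
      obtain ⟨n, hn⟩ := hsolv.solvable
      have : ∀ j, A i ≤ clo hH (derivedSeries H j) := fun j => by
        induction j with
        | zero => exact (le_top).trans (le_clo hH _)
        | succ j ih =>
          rw [← he, hA, derivedSeries_succ]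
          exact clo_le hH ((Subgroup.commutator_mono ih ih).trans (commutator_clo_le hH _ _)) (isClosed_clo hH _)
      exact le_bot_iff.1 ((this n).trans (by rw [hn, clo_bot hH]))
    · exact Or.inr (lt_of_le_of_ne (hsub i) he)
  have hbot : ∀ i, A i = ⊥ → A (i + 1) = ⊥ := fun i h => le_bot_iff.1 ((hsub i).trans h.le)
  have hD : ∀ i, derivedSeries H (N.index + i) ≤ A i := fun i => by
    induction i with
    | zero => exact derivedSeries_le_of_index hNf hsolv
    | succ i ih =>
      rw [← Nat.add_assoc, derivedSeries_succ, hA]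
      exact (Subgroup.commutator_mono ih ih).trans (le_clo hH _)
  exact le_bot_iff.1 ((hD d).trans (chain_bot hd A hirr hcl hlt hbot).le)

include hd hN hNc hNi hNf in
theorem lowerCentralSeries_bound (hnil : Group.IsNilpotent H) :
    (⊤ : Subgroup H).lowerCentralSeries (N.index + d) = ⊥ := by
  let A : ℕ → Subgroup H := fun i => Nat.rec (motive := fun _ => Subgroup H) N (fun _ A => clo hH ⁅A, (⊤ : Subgroup H)⁆) i
  have hA : ∀ i, A (i + 1) = clo hH ⁅A i, (⊤ : Subgroup H)⁆ := fun i => rfl
  have hirr : ∀ i, IsIrreducible ((A i : Subgroup H) : Set H) := fun i => by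
    induction i with
    | zero => exact hNi
    | succ i ih => exact (isIrreducible_commutator hH _ ih.isPreirreducible).closure
  have hcl : ∀ i, IsClosed (A i : Set H) := fun i => by
    cases i with
    | zero => exact hNc
    | succ i => exact isClosed_closure
  have hnorm : ∀ i, (A i).Normal := fun i => by
    induction i with
    | zero => exact hN
    | succ i ih => exact normal_clo hH inferInstance
  have hsub : ∀ i, A (i + 1) ≤ A i := fun i =>
    clo_le hH (haveI := hnorm i; Subgroup.commutator_le_left _ _) (hcl i)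
  have hlt : ∀ i, A i = ⊥ ∨ A (i + 1) < A i := fun i => by
    by_cases he : A (i + 1) = A i
    · refine Or.inl ?_
      obtain ⟨n, hn⟩ := nilpotent_iff_lowerCentralSeries.1 hnil
      have : ∀ j, A i ≤ clo hH ((⊤ : Subgroup H).lowerCentralSeries j) := fun j => by
        induction j with
        | zero => exact (le_top).trans (le_clo hH _)
        | succ j ih =>
          rw [← he, hA, Subgroup.lowerCentralSeries_succ]
          exact clo_le hH ((Subgroup.commutator_mono ih (le_clo hH ⊤)).trans (commutator_clo_le hH _ _)) (isClosed_clo hH _)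
      exact le_bot_iff.1 ((this n).trans (by rw [hn, clo_bot hH]))
    · exact Or.inr (lt_of_le_of_ne (hsub i) he)
  have hbot : ∀ i, A i = ⊥ → A (i + 1) = ⊥ := fun i h => le_bot_iff.1 ((hsub i).trans h.le)
  have hD : ∀ i, (⊤ : Subgroup H).lowerCentralSeries (N.index + i) ≤ A i := fun i => by
    induction i with
    | zero => exact lowerCentralSeries_le_of_index hNf hnil
    | succ i ih =>
      rw [← Nat.add_assoc, Subgroup.lowerCentralSeries_succ, hA]
      exact (Subgroup.commutator_mono ih le_rfl).trans (le_clo hH _)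
  exact le_bot_iff.1 ((hD d).trans (chain_bot hd A hirr hcl hlt hbot).le)

end Groth.Sga3.GroupBound
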