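import Groth.Agent.Sga3.PointsSolvable
import Groth.Agent.SpectralTopology.FpCancel
import Groth.Agent.AlgSpBasic.EtaleLocalSets
import Groth.Agent.S4599
import Mathlib.AlgebraicGeometry.Morphisms.Immersion

/-!
Iterated commutator morphisms of a group scheme over any base, and the sets of points of the base over
which they are trivial.
-/

set_option autoImplicit false
set_option linter.style.haveILetI false

universe u

open CategoryTheory CategoryTheory.Limits MonoidalCategory CartesianMonoidalCategory MonObj GrpObj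
  AlgebraicGeometry TopologicalSpace Topology
open scoped commutatorElement

noncomputable section

namespace Groth.Sga3.Solvable

open Groth.Sga3.PointsSolvable (commutator_closure_le normal_closure_of_invariant)

variable {S : Scheme.{u}} (G : Over S) [GrpObj G]

/-- A word: a source and a morphism to the group. -/
structure RWord where
  P : Over S
  w : P ⟶ G

/-- the commutator of two words -/
def RWord.comm (a b : RWord G) : RWord G := ⟨a.P ⊗ b.P, ⁅fst a.P b.P ≫ a.w, snd a.P b.P ≫ b.w⁆⟩

/-- values of a word -/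
def RWord.values (a : RWord G) (T : Over S) : Set (T ⟶ G) := Set.range fun x : T ⟶ a.P => x ≫ a.w

theorem rvalues_comm (a b : RWord G) (T : Over S) :
    (a.comm G b).values G T = Set.image2 (fun p q => ⁅p, q⁆) (a.values G T) (b.values G T) := by
  ext g
  constructor
  · rintro ⟨x, rfl⟩
    refine ⟨_, ⟨x ≫ fst a.P b.P, rfl⟩, _, ⟨x ≫ snd a.P b.P, rfl⟩, ?_⟩
    simp only [RWord.comm, Category.assoc, commutatorElement_def, MonObj.comp_mul, GrpObj.comp_inv]
  · rintro ⟨_, ⟨y, rfl⟩, _, ⟨z, rfl⟩, rfl⟩
    refine ⟨lift y z, ?_⟩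
    simp only [RWord.comm, commutatorElement_def, MonObj.comp_mul, GrpObj.comp_inv, lift_fst_assoc, lift_snd_assoc]

/-- the derived words -/
def dW : ℕ → RWord G
  | 0 => ⟨G, 𝟙 G⟩
  | n + 1 => (dW n).comm G (dW n)

/-- the lower central words -/
def lW : ℕ → RWord G
  | 0 => ⟨G, 𝟙 G⟩
  | n + 1 => (lW n).comm G ⟨G, 𝟙 G⟩

theorem rvalues_id (T : Over S) : RWord.values G ⟨G, 𝟙 G⟩ T = Set.univ :=
  Set.eq_univ_of_forall fun g => ⟨g, Category.comp_id g⟩

theorem conj_dW (T : Over S) : ∀ n, ∀ p ∈ (dW G n).values G T, ∀ g : T ⟶ G,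
    g * p * g⁻¹ ∈ (dW G n).values G T
  | 0 => fun _ _ _ => (rvalues_id G T).ge (Set.mem_univ _)
  | n + 1 => by
    rw [dW, rvalues_comm]
    rintro _ ⟨p, hp, q, hq, rfl⟩ g
    exact ⟨_, conj_dW T n p hp g, _, conj_dW T n q hq g, (conjugate_commutatorElement p q g).symm⟩

theorem conj_lW (T : Over S) : ∀ n, ∀ p ∈ (lW G n).values G T, ∀ g : T ⟶ G,
    g * p * g⁻¹ ∈ (lW G n).values G T
  | 0 => fun _ _ _ => (rvalues_id G T).ge (Set.mem_univ _)
  | n + 1 => by
    rw [lW, rvalues_comm]
    rintro _ ⟨p, hp, q, hq, rfl⟩ g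
    exact ⟨_, conj_lW T n p hp g, _, (rvalues_id G T).ge (Set.mem_univ _), (conjugate_commutatorElement p q g).symm⟩

theorem derivedSeries_eq_closure (T : Over S) : ∀ n,
    derivedSeries (T ⟶ G) n = Subgroup.closure ((dW G n).values G T)
  | 0 => by rw [derivedSeries_zero, dW, rvalues_id, Subgroup.closure_univ]
  | n + 1 => by
    rw [derivedSeries_succ, derivedSeries_eq_closure T n]
    refine le_antisymm ?_ ?_
    · haveI := normal_closure_of_invariant (conj_dW G T (n + 1))
      refine commutator_closure_le fun a ha b hb => Subgroup.subset_closure ?_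
      rw [dW, rvalues_comm]
      exact ⟨a, ha, b, hb, rfl⟩
    · rw [Subgroup.closure_le, dW, rvalues_comm]
      rintro _ ⟨a, ha, b, hb, rfl⟩
      exact Subgroup.commutator_mem_commutator (Subgroup.subset_closure ha) (Subgroup.subset_closure hb)

theorem lowerCentralSeries_eq_closure (T : Over S) : ∀ n,
    Subgroup.lowerCentralSeries (⊤ : Subgroup (T ⟶ G)) n = Subgroup.closure ((lW G n).values G T)
  | 0 => by rw [Subgroup.lowerCentralSeries_zero, lW, rvalues_id, Subgroup.closure_univ]
  | n + 1 => by
    rw [Subgroup.lowerCentralSeries_succ, lowerCentralSeries_eq_closure T n]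
    refine le_antisymm ?_ ?_
    · rw [← Subgroup.closure_univ]
      haveI := normal_closure_of_invariant (conj_lW G T (n + 1))
      refine commutator_closure_le fun a ha b hb => Subgroup.subset_closure ?_
      rw [lW, rvalues_comm]
      exact ⟨a, ha, b, (rvalues_id G T).ge hb, rfl⟩
    · rw [Subgroup.closure_le, lW, rvalues_comm]
      rintro _ ⟨a, ha, b, -, rfl⟩
      exact Subgroup.commutator_mem_commutator (Subgroup.subset_closure ha) (Subgroup.mem_top _)

variable {G}

theorem derivedSeries_eq_bot_iff (T : Over S) (n : ℕ) :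
    derivedSeries (T ⟶ G) n = ⊥ ↔ ∀ x : T ⟶ (dW G n).P, x ≫ (dW G n).w = 1 := by
  rw [derivedSeries_eq_closure, Subgroup.closure_eq_bot_iff]
  exact ⟨fun h x => h ⟨x, rfl⟩, fun h _ ⟨x, hx⟩ => hx ▸ h x⟩

theorem lowerCentralSeries_eq_bot_iff (T : Over S) (n : ℕ) :
    Subgroup.lowerCentralSeries (⊤ : Subgroup (T ⟶ G)) n = ⊥ ↔ ∀ x : T ⟶ (lW G n).P, x ≫ (lW G n).w = 1 := by
  rw [lowerCentralSeries_eq_closure, Subgroup.closure_eq_bot_iff]
  exact ⟨fun h x => h ⟨x, rfl⟩, fun h _ ⟨x, hx⟩ => hx ▸ h x⟩

/-- A property stable under fibre products holds for all sources of words. -/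
theorem prop_dW (Q : MorphismProperty Scheme.{u}) [Q.IsStableUnderComposition] [Q.IsStableUnderBaseChange]
    (h : Q G.hom) : ∀ n, Q (dW G n).P.hom
  | 0 => h
  | n + 1 => Q.comp_mem _ _ (Q.pullback_fst _ _ (prop_dW Q h n)) (prop_dW Q h n)

theorem prop_lW (Q : MorphismProperty Scheme.{u}) [Q.IsStableUnderComposition] [Q.IsStableUnderBaseChange]
    (h : Q G.hom) : ∀ n, Q (lW G n).P.hom
  | 0 => h
  | n + 1 => Q.comp_mem _ _ (Q.pullback_fst _ _ h) (prop_lW Q h n)

/-- The points of the source at which a word is trivial. -/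
def oneSet (a : RWord G) : Set a.P.left :=
  (pullback.lift (f := G.hom) (g := G.hom) a.w.left (1 : a.P ⟶ G).left (by rw [Over.w, Over.w])).base ⁻¹'
    Set.range (pullback.diagonal G.hom).base

theorem mem_oneSet_iff (a : RWord G) {T : Over S} [Subsingleton T.left] [IsReduced T.left] (x : T ⟶ a.P)
    (p : T.left) : x.left.base p ∈ oneSet a ↔ x ≫ a.w = 1 := by
  let L := pullback.lift (f := G.hom) (g := G.hom) a.w.left (1 : a.P ⟶ G).left (by rw [Over.w, Over.w])
  have h1 : (x ≫ a.w).left = x.left ≫ a.w.left := rfl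
  have h2 : (1 : T ⟶ G).left = x.left ≫ (1 : a.P ⟶ G).left := by rw [← Over.comp_left, MonObj.comp_one]
  constructor
  · intro h
    have hr : Set.range (pullback.fst (x.left ≫ L) (pullback.diagonal G.hom)).base = Set.univ := by
      rw [Scheme.Pullback.range_fst]
      refine Set.eq_univ_of_forall fun q => ?_
      rw [Subsingleton.elim q p]
      exact h
    haveI : Surjective (pullback.fst (x.left ≫ L) (pullback.diagonal G.hom)) := ⟨Set.range_eq_univ.1 hr⟩
    haveI : IsClosedImmersion (pullback.fst (x.left ≫ L) (pullback.diagonal G.hom)) := by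
      refine IsClosedImmersion.iff_isPreimmersion.2 ⟨inferInstance, ?_⟩
      rw [hr]
      exact isClosed_univ
    haveI := isIso_of_isClosedImmersion_of_surjective (pullback.fst (x.left ≫ L) (pullback.diagonal G.hom))
    let z := inv (pullback.fst (x.left ≫ L) (pullback.diagonal G.hom)) ≫ pullback.snd _ _
    have hz : z ≫ pullback.diagonal G.hom = x.left ≫ L := by
      simp only [z, Category.assoc, ← pullback.condition, IsIso.inv_hom_id_assoc]
    have e1 := congrArg (· ≫ pullback.fst G.hom G.hom) hz
    have e2 := congrArg (· ≫ pullback.snd G.hom G.hom) hz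
    simp only [Category.assoc, pullback.diagonal_fst, pullback.diagonal_snd, Category.comp_id, L,
      pullback.lift_fst, pullback.lift_snd] at e1 e2
    apply Over.OverMorphism.ext
    rw [h1, h2, ← e1, ← e2]
  · intro h
    refine ⟨(x ≫ a.w).left.base p, ?_⟩
    have : (x ≫ a.w).left ≫ pullback.diagonal G.hom = x.left ≫ L := by
      refine pullback.hom_ext ?_ ?_
      · rw [Category.assoc, pullback.diagonal_fst, Category.comp_id, Category.assoc, pullback.lift_fst, h1]
      · rw [Category.assoc, pullback.diagonal_snd, Category.comp_id, Category.assoc, pullback.lift_snd, ← h2, h]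
    exact congr(($this).base p)

variable [LocallyOfFiniteType G.hom]

theorem isLocallyConstructible_oneSet [QuasiSeparated G.hom] (a : RWord G) :
    IsLocallyConstructible (oneSet a) := by
  haveI : LocallyOfFinitePresentation (pullback.diagonal G.hom) := Groth.Agent.S4599.result G.hom
  refine Groth.AlgSpBasic.isLocallyConstructible_preimage_scheme _ ?_
  rw [← Set.image_univ]
  exact (pullback.diagonal G.hom).isLocallyConstructible_image IsLocallyConstructible.univ

theorem isClosed_oneSet [IsSeparated G.hom] (a : RWord G) : IsClosed (oneSet a) :=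
  (pullback.diagonal G.hom).isClosedEmbedding.isClosed_range.preimage (Scheme.Hom.continuous _)

omit [LocallyOfFiniteType G.hom] in
/-- The geometric point at `s` as an object over the base. -/
abbrev gpT (s : S) : Over S :=
  (Over.map (Red.geomPt s)).obj (Groth.AlgGrp1.specAlg (AlgebraicClosure (S.residueField s)) (AlgebraicClosure (S.residueField s)))

theorem forall_gpT_iff (a : RWord G) [LocallyOfFiniteType a.P.hom] (s : S) :
    (∀ x : gpT s ⟶ a.P, x ≫ a.w = 1) ↔ s ∉ a.P.hom.base '' (oneSet a)ᶜ := by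
  haveI : Subsingleton (gpT s).left := inferInstanceAs (Subsingleton (PrimeSpectrum (AlgebraicClosure (S.residueField s))))
  haveI : IsReduced (gpT s).left := inferInstanceAs (IsReduced (Spec (CommRingCat.of (AlgebraicClosure (S.residueField s)))))
  let pt : (gpT s).left := IsLocalRing.closedPoint (AlgebraicClosure (S.residueField s))
  constructor
  · rintro h ⟨q, hq, hqs⟩
    let Z := a.P.hom.fiber s
    let j := a.P.hom.fiberι s
    obtain ⟨c, rfl⟩ : q ∈ Set.range j.base := (a.P.hom.range_fiberι s).ge hqs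
    haveI : LocallyOfFiniteType (a.P.hom.fiberToSpecResidueField s) :=
      inferInstanceAs (LocallyOfFiniteType (pullback.snd a.P.hom (S.fromSpecResidueField s)))
    haveI : JacobsonSpace Z := LocallyOfFiniteType.jacobsonSpace (a.P.hom.fiberToSpecResidueField s)
    have hlc : IsLocallyClosed (oneSet a) :=
      ((pullback.diagonal G.hom).isLocallyClosed_range).preimage (Scheme.Hom.continuous _)
    obtain ⟨U, F, hU, hF, hUF⟩ := hlc
    obtain ⟨c', hc', hcl⟩ : ∃ c' : Z, j.base c' ∉ oneSet a ∧ IsClosed {c'} := by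
      rw [hUF] at hq
      by_cases hcU : j.base c ∈ U
      · obtain ⟨c', h1, h2⟩ := nonempty_inter_closedPoints (Z := j.base ⁻¹' Fᶜ)
          ⟨c, fun hcF => hq ⟨hcU, hcF⟩⟩ (hF.isOpen_compl.preimage j.continuous).isLocallyClosed
        exact ⟨c', fun h => h1 (hUF.le h).2, h2⟩
      · obtain ⟨c', h1, h2⟩ := nonempty_inter_closedPoints (Z := j.base ⁻¹' Uᶜ) ⟨c, hcU⟩
          (hU.isClosed_compl.preimage j.continuous).isLocallyClosed
        exact ⟨c', fun h => h1 (hUF.le h).1, h2⟩
    let Zo : Over (Spec (CommRingCat.of (S.residueField s))) := Over.mk (a.P.hom.fiberToSpecResidueField s)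
    haveI : LocallyOfFiniteType Zo.hom := inferInstanceAs (LocallyOfFiniteType (a.P.hom.fiberToSpecResidueField s))
    obtain ⟨t, ht⟩ := Groth.AlgGrp1.exists_point_over_closed (AlgebraicClosure (S.residueField s)) Zo c' hcl
    let x : gpT s ⟶ a.P := Over.homMk (t.left ≫ j) (by
      show (t.left ≫ j) ≫ a.P.hom = Spec.map _ ≫ Red.geomPt s
      rw [Category.assoc, a.P.hom.fiber_fac s, ← Category.assoc, show t.left ≫ a.P.hom.fiberToSpecResidueField s = _ from Over.w t,
        Algebra.algebraMap_self]
      exact (Category.id_comp _).symm.trans (congrArg (· ≫ _) (Spec.map_id _).symm))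
    refine hc' ?_
    rw [← ht]
    exact ((mem_oneSet_iff a x pt).2 (h x) :)
  · intro h x
    refine (mem_oneSet_iff a x pt).1 ?_
    by_contra hne
    refine h ⟨_, hne, ?_⟩
    rw [← Scheme.Hom.comp_apply, Over.w x]
    show (Spec.map _ ≫ Spec.map _ ≫ S.fromSpecResidueField s).base _ = s
    rw [Scheme.Hom.comp_apply, Scheme.Hom.comp_apply]
    exact Scheme.fromSpecResidueField_apply _ _

end Groth.Sga3.Solvable
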